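import Groth.Agent.Lib.Helper19.FibBC.Sch
import Groth.Agent.Lib.Helper14.PtTrdegMax
import Groth.Agent.Lib.Helper14.DimClosure
import Groth.Agent.Lib.Helper14.FibreComp

/-!
# Points over a pair of points with maximal transcendence degree
-/

set_option autoImplicit false
set_option linter.style.haveILetI false
universe u
open CategoryTheory CategoryTheory.Limits AlgebraicGeometry TopologicalSpace

namespace Groth.Agent.Helper19.FibBC

/-- a generization-maximal point among the points with two prescribed images -/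
theorem exists_maximal_over_pair {Z A B : Scheme.{u}} (a : Z ⟶ A) (b : Z ⟶ B) (α : A) (β : B)
    (z0 : Z) (ha : a z0 = α) (hb : b z0 = β) :
    ∃ ξ : Z, a ξ = α ∧ b ξ = β ∧ ∀ z : Z, z ⤳ ξ → a z = α → b z = β → z = ξ := by
  set c : a.fiber α ⟶ B := a.fiberι α ≫ b with hc
  have hmemA : ∀ t : a.fiber α, a (a.fiberι α t) = α := fun t => by
    have : a.fiberι α t ∈ Set.range (a.fiberι α) := ⟨t, rfl⟩
    rw [a.range_fiberι α] at this
    exact this
  have hmemC : ∀ t : c.fiber β, c (c.fiberι β t) = β := fun t => by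
    have : c.fiberι β t ∈ Set.range (c.fiberι β) := ⟨t, rfl⟩
    rw [c.range_fiberι β] at this
    exact this
  -- lifting points
  have lift : ∀ z : Z, a z = α → b z = β → ∃ t : c.fiber β, a.fiberι α (c.fiberι β t) = z := by
    intro z hz1 hz2
    let t1 : a.fiber α := (a.fiberHomeo α).symm ⟨z, hz1⟩
    have ht1 : a.fiberι α t1 = z := a.fiberι_fiberHomeo_symm _ _
    have hct1 : c t1 = β := by
      rw [hc, Scheme.Hom.comp_apply, ht1, hz2]
    let t12 : c.fiber β := (c.fiberHomeo β).symm ⟨t1, hct1⟩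
    have ht12 : c.fiberι β t12 = t1 := c.fiberι_fiberHomeo_symm _ _
    exact ⟨t12, by rw [ht12, ht1]⟩
  obtain ⟨t0, ht0⟩ := lift z0 ha hb
  obtain ⟨ξ, -, hξmax⟩ := exists_maximal_generization (c.fiber β) t0
  refine ⟨a.fiberι α (c.fiberι β ξ), hmemA _, ?_, fun z hz hz1 hz2 => ?_⟩
  · exact hmemC ξ
  · obtain ⟨t, ht⟩ := lift z hz1 hz2
    rw [← ht] at hz ⊢
    have h1 : c.fiberι β t ⤳ c.fiberι β ξ :=
      (a.fiberι α).isEmbedding.isInducing.specializes_iff.mp hz
    have h2 : t ⤳ ξ := (c.fiberι β).isEmbedding.isInducing.specializes_iff.mp h1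
    rw [hξmax t h2]

/-- strict specializations inside a fibre of a morphism locally of finite type strictly decrease
the transcendence degree of the residue field -/
theorem toNat_resTrdeg_lt_of_specializes {U V : Scheme.{u}} (h : U ⟶ V) [LocallyOfFiniteType h]
    {z x : U} (hs : z ⤳ x) (hne : z ≠ x) (hv : h z = h x) :
    Cardinal.toNat (Dual3.resTrdeg h x) < Cardinal.toNat (Dual3.resTrdeg h z) := by
  set g := h.fiberToSpecResidueField (h x) with hg
  haveI : LocallyOfFiniteType g := MorphismProperty.pullback_snd _ _ inferInstance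
  let zF : h.fiber (h x) := (h.fiberHomeo (h x)).symm ⟨z, hv⟩
  let xF : h.fiber (h x) := (h.fiberHomeo (h x)).symm ⟨x, rfl⟩
  have hzF : h.fiberι (h x) zF = z := h.fiberι_fiberHomeo_symm _ _
  have hxF : h.fiberι (h x) xF = x := h.fiberι_fiberHomeo_symm _ _
  have hsF : zF ⤳ xF := by
    apply (h.fiberι (h x)).isEmbedding.isInducing.specializes_iff.mp
    rw [hzF, hxF]; exact hs
  have hneF : zF ≠ xF := fun he => hne (hzF.symm.trans ((congrArg _ he).trans hxF))
  have key := (Groth.Agent.Helper14.DimClosure.isDimFun_trdegFun (V.residueField (h x)) g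
    zF xF hsF hneF).1
  have e : ∀ (t : h.fiber (h x)) (w : U), h.fiberι (h x) t = w →
      Groth.Agent.Helper14.DimClosure.trdegFun g t = (Cardinal.toNat (Dual3.resTrdeg h w) : ℤ) := by
    intro t w htw
    subst htw
    unfold Groth.Agent.Helper14.DimClosure.trdegFun
    rw [← Groth.Agent.Helper14.FibreComp.trdeg_fibre h (h x) t]
    rfl
  rw [e zF z hzF, e xF x hxF] at key
  exact_mod_cast key

/-- a point of a base change whose residue field has the same finite transcendence degree as its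
image is maximal among the points with the same two projections -/
theorem maximal_of_trdeg_eq {X S S' X' : Scheme.{u}} {f : X ⟶ S} {g : S' ⟶ S} {g' : X' ⟶ X}
    {f' : X' ⟶ S'} [LocallyOfFiniteType f] (hX : IsPullback g' f' f g) (x₁ : X') (r : ℕ)
    (h1 : Dual3.resTrdeg f' x₁ = r) (h0 : Dual3.resTrdeg f (g' x₁) = r) :
    ∀ z : X', z ⤳ x₁ → g' z = g' x₁ → f' z = f' x₁ → z = x₁ := by
  intro z hz hgz hfz
  by_contra hne
  haveI : LocallyOfFiniteType f' := MorphismProperty.of_isPullback hX inferInstance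
  have hlt := toNat_resTrdeg_lt_of_specializes f' hz hne hfz
  have hle : Dual3.resTrdeg f' z ≤ (r : Cardinal.{u}) := by
    have h2 := (Groth.Agent.Helper14.FibreBC.trdeg_of_isPullback hX z).1
    rw [Groth.Agent.Helper14.FibreBC.trdeg_point_congr f hgz] at h2
    exact h2.trans h0.le
  have hle' : Cardinal.toNat (Dual3.resTrdeg f' z) ≤ r := by
    have := Cardinal.toNat_le_toNat hle (Cardinal.natCast_lt_aleph0)
    rwa [Cardinal.toNat_natCast] at this
  rw [h1, Cardinal.toNat_natCast] at hlt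
  omega

/-- S7287 -/
theorem exists_point_over_pair {X S S' S'' X' X'' : Scheme.{u}}
    (f : X ⟶ S) [LocallyOfFiniteType f] (r : ℕ) (g : S' ⟶ S)
    (p q : S'' ⟶ S') (hS : IsPullback p q g g)
    (f' : X' ⟶ S') (g' : X' ⟶ X) (hX : IsPullback g' f' f g)
    (f'' : X'' ⟶ S'') (p' q' : X'' ⟶ X') (hp : IsPullback p' f'' f' p) (hq : IsPullback q' f'' f' q)
    (hpq : p' ≫ g' = q' ≫ g')
    (x : X) (hx : Dual3.resTrdeg f x = r)
    (x₁ x₂ : X') (h₁ : g' x₁ = x) (h₂ : g' x₂ = x)
    (hx₁ : Dual3.resTrdeg f' x₁ = r) (hx₂ : Dual3.resTrdeg f' x₂ = r) :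
    ∃ x'' : X'', Dual3.resTrdeg f'' x'' = r ∧ p' x'' = x₁ ∧ q' x'' = x₂ := by
  subst h₁
  -- `X'' = X' ×_X X'`
  have sqPQ : IsPullback p' q' g' g' := by
    have outer : IsPullback (q' ≫ f') p' g (g' ≫ f) := by
      have := hp.flip.paste_horiz hS.flip
      rw [← hq.w, ← hX.w] at this
      exact this
    exact (IsPullback.of_right outer hpq.symm hX.flip).flip
  obtain ⟨z, hz1, hz2⟩ := Scheme.Pullback.exists_preimage_pullback (f := g') (g := g') x₁ x₂ h₂.symm
  set z0 : X'' := sqPQ.isoPullback.inv z with hz0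
  have hz0p : p' z0 = x₁ := by
    rw [hz0, ← Scheme.Hom.comp_apply, sqPQ.isoPullback_inv_fst]; exact hz1
  have hz0q : q' z0 = x₂ := by
    rw [hz0, ← Scheme.Hom.comp_apply, sqPQ.isoPullback_inv_snd]; exact hz2
  obtain ⟨ξ, hξ1, hξ2, hξmax⟩ := exists_maximal_over_pair p' q' x₁ x₂ z0 hz0p hz0q
  refine ⟨ξ, ?_, hξ1, hξ2⟩
  have big : IsPullback (p' ≫ g') f'' f (p ≫ g) := hp.paste_horiz hX
  have hx₂' : Dual3.resTrdeg f (g' x₂) = r := by rw [h₂]; exact hx
  have m1 := maximal_of_trdeg_eq hX x₁ r hx₁ hx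
  have m2 := maximal_of_trdeg_eq hX x₂ r hx₂ hx₂'
  have hmax : ∀ z' : X'', z' ⤳ ξ → (p' ≫ g') z' = (p' ≫ g') ξ → f'' z' = f'' ξ → z' = ξ := by
    intro z' hz' hg hf
    have hp1 : p' z' = x₁ := by
      apply m1 (p' z')
      · rw [← hξ1]; exact hz'.map p'.continuous
      · rw [Scheme.Hom.comp_apply, Scheme.Hom.comp_apply, hξ1] at hg; exact hg
      · rw [← hξ1, ← Scheme.Hom.comp_apply, ← Scheme.Hom.comp_apply, hp.w,
          Scheme.Hom.comp_apply, Scheme.Hom.comp_apply, hf]
    have hq1 : q' z' = x₂ := by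
      apply m2 (q' z')
      · rw [← hξ2]; exact hz'.map q'.continuous
      · rw [hpq, Scheme.Hom.comp_apply, Scheme.Hom.comp_apply, hξ2] at hg; exact hg
      · rw [← hξ2, ← Scheme.Hom.comp_apply, ← Scheme.Hom.comp_apply, hq.w,
          Scheme.Hom.comp_apply, Scheme.Hom.comp_apply, hf]
    exact hξmax z' hz' hp1 hq1
  have e1 := Groth.Agent.Helper14.PtTrdegMax.trdeg_eq_of_maximal big ξ hmax
  have e2 : (p' ≫ g') ξ = g' x₁ := by rw [Scheme.Hom.comp_apply, hξ1]
  have e3 := Groth.Agent.Helper14.FibreBC.trdeg_point_congr f e2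
  change @Algebra.trdeg (S''.residueField (f'' ξ)) (X''.residueField ξ) _ _
    (f''.residueFieldMap ξ).hom.toAlgebra = r
  rw [e1, e3]
  exact hx

end Groth.Agent.Helper19.FibBC
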