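import Mathlib
import Groth.Prelude.Def_Dual3
import Groth.Prelude.Def_Flat
import Groth.Agent.Lib.Helper14.FibreBC
import Groth.Agent.Lib.Helper14.FibreDimBC
import Groth.Agent.Lib.Helper14.FibreGeneric
import Groth.Agent.Lib.Helper14.FibreComp
import Groth.Agent.Lib.Helper14.DimClosure
import Groth.Agent.Lib.Helper14.ResFieldBridge

/-!
# Base change of fibre local-ring dimension and transcendence degrees (schemes)
-/

set_option autoImplicit false
set_option linter.style.haveILetI false
universe u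
open CategoryTheory CategoryTheory.Limits AlgebraicGeometry TopologicalSpace

namespace Groth.Agent.Helper19.FibBC

/-- every point of a scheme has a generization which is maximal for generization -/
theorem exists_maximal_generization (X : Scheme.{u}) (x : X) :
    ∃ ξ : X, ξ ⤳ x ∧ ∀ z : X, z ⤳ ξ → z = ξ := by
  obtain ⟨ξ, hξ⟩ := QuasiSober.sober (isIrreducible_irreducibleComponent (x := x))
    isClosed_irreducibleComponent
  refine ⟨ξ, hξ.specializes mem_irreducibleComponent, fun z hz => ?_⟩
  have hirr : IsIrreducible (closure ({z} : Set X)) := isIrreducible_singleton.closure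
  have hle : irreducibleComponent x ≤ closure ({z} : Set X) := by
    rw [← hξ.def]
    exact hz.closure_subset
  have hmax := (irreducibleComponent_mem_irreducibleComponents x).2 hirr hle
  have hzmem : z ∈ irreducibleComponent x := hmax (subset_closure (Set.mem_singleton z))
  have hξz : ξ ⤳ z := hξ.specializes hzmem
  exact (hz.antisymm hξz).eq

/-- in a cartesian square of schemes, over a point `u` and a point `v'` with the same image there
is a point `u'` whose residue field has the same transcendence degree over that of `v'` as `κ(u)`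
has over the residue field of the image of `u` -/
theorem exists_point_trdeg_eq {U V V' U' : Scheme.{u}} {h : U ⟶ V} {ν : V' ⟶ V} {π₁ : U' ⟶ U}
    {π₂ : U' ⟶ V'} (sq : IsPullback π₁ π₂ h ν) (u : U) (v' : V') (huv : h u = ν v') :
    ∃ u' : U', π₁ u' = u ∧ π₂ u' = v' ∧ Dual3.resTrdeg π₂ u' = Dual3.resTrdeg h u := by
  set ι : Spec (U.residueField u) ⟶ U := U.fromSpecResidueField u with hι
  set h₀ : Spec (U.residueField u) ⟶ V := ι ≫ h with hh₀
  let pt : Spec (U.residueField u) := IsLocalRing.closedPoint (U.residueField u)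
  have hpt : ∀ s : Spec (U.residueField u), ι s = u := fun s =>
    Scheme.fromSpecResidueField_apply u s
  set fst : pullback h₀ ν ⟶ Spec (U.residueField u) := pullback.fst h₀ ν with hfst
  set snd : pullback h₀ ν ⟶ V' := pullback.snd h₀ ν with hsnd
  have sqW : IsPullback fst snd h₀ ν := IsPullback.of_hasPullback h₀ ν
  have hpt2 : h₀ pt = ν v' := by rw [hh₀, Scheme.Hom.comp_apply, hpt, huv]
  obtain ⟨w₀, hw₀1, hw₀2⟩ := Scheme.Pullback.exists_preimage_pullback pt v' hpt2
  let a₀ : snd.fiber v' := (snd.fiberHomeo v').symm ⟨w₀, hw₀2⟩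
  obtain ⟨ξ, hξa, hξmax⟩ := exists_maximal_generization (snd.fiber v') a₀
  set w : ↥(pullback h₀ ν) := snd.fiberι v' ξ with hw
  have hw2 : snd w = v' := by
    have : w ∈ Set.range (snd.fiberι v') := ⟨ξ, rfl⟩
    rw [snd.range_fiberι v'] at this
    exact this
  have hwmax : ∀ z' : ↥(pullback h₀ ν), z' ⤳ w → snd z' = snd w → z' = w := by
    intro z' hz' hsz'
    have hz'mem : snd z' = v' := hsz'.trans hw2
    let b : snd.fiber v' := (snd.fiberHomeo v').symm ⟨z', hz'mem⟩
    have hb : snd.fiberι v' b = z' := snd.fiberι_fiberHomeo_symm _ _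
    have h3 : ξ = (snd.fiberHomeo v').symm ⟨w, hw2⟩ := by
      apply (snd.fiberHomeo v').injective
      rw [Homeomorph.apply_symm_apply]
      exact Subtype.ext rfl
    have hbξ : b ⤳ ξ := by
      rw [h3]
      apply Specializes.map _ (snd.fiberHomeo v').symm.continuous
      rw [subtype_specializes_iff]
      exact hz'
    have := hξmax b hbξ
    rw [← hb, this]
  obtain ⟨t1, t2⟩ := Groth.Agent.Helper14.FibreBC.trdeg_of_isPullback sqW w
  have t2' := t2 hwmax
  have E1 := le_antisymm t1 t2'
  -- the transcendence degree of `h₀` at `fst w`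
  have E2 := Groth.Agent.Helper14.DimClosure.trdeg_comp ι h (fst w)
  rw [Groth.Agent.Helper14.FibreComp.trdeg_of_surjectiveOnStalks ι (fst w), add_zero] at E2
  have E3 := Groth.Agent.Helper14.FibreBC.trdeg_point_congr h (hpt (fst w))
  -- the map to `U'`
  have hjw : (fst ≫ ι) ≫ h = snd ≫ ν := by rw [Category.assoc]; exact sqW.w
  set j : pullback h₀ ν ⟶ U' := sq.lift (fst ≫ ι) snd hjw with hj
  have hj1 : j ≫ π₁ = fst ≫ ι := sq.lift_fst _ _ _
  have hj2 : j ≫ π₂ = snd := sq.lift_snd _ _ _
  have sqj : IsPullback j fst π₁ ι := by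
    refine IsPullback.of_right (t := sq.flip) ?_ hj1
    rw [hj2]
    exact sqW.flip
  haveI : SurjectiveOnStalks j :=
    MorphismProperty.of_isPullback (P := @SurjectiveOnStalks) sqj.flip inferInstance
  have E4 := Groth.Agent.Helper14.FibreComp.trdeg_congr hj2 w
  have E5 := Groth.Agent.Helper14.DimClosure.trdeg_comp j π₂ w
  rw [Groth.Agent.Helper14.FibreComp.trdeg_of_surjectiveOnStalks j w, add_zero] at E5
  refine ⟨j w, ?_, ?_, ?_⟩
  · rw [← Scheme.Hom.comp_apply, hj1, Scheme.Hom.comp_apply, hpt]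
  · rw [← Scheme.Hom.comp_apply, hj2, hw2]
  · change @Algebra.trdeg (V'.residueField (π₂ (j w))) (U'.residueField (j w)) _ _
        (π₂.residueFieldMap (j w)).hom.toAlgebra =
      @Algebra.trdeg (V.residueField (h u)) (U.residueField u) _ _
        (h.residueFieldMap u).hom.toAlgebra
    rw [← E5, E4, E1, E2, E3]

/-- cancellation in `WithBot ℕ∞` of a natural number -/
theorem add_natCast_cancel {a b : WithBot ℕ∞} (n : ℕ)
    (h : a + ((n : ℕ∞) : WithBot ℕ∞) = b + ((n : ℕ∞) : WithBot ℕ∞)) : a = b := by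
  have e : ((n : ℕ∞) : WithBot ℕ∞) = (n : WithBot ℕ∞) := rfl
  rw [e] at h
  exact ENat.WithBot.add_natCast_cancel.mp h

/-- in a cartesian square with `h` locally of finite type, if the transcendence degrees agree
then the local rings of the fibres have the same dimension -/
theorem stalk_fibre_eq_of_trdeg_eq {U V V' U' : Scheme.{u}} {h : U ⟶ V} {ν : V' ⟶ V}
    {π₁ : U' ⟶ U} {π₂ : U' ⟶ V'} [LocallyOfFiniteType h] (sq : IsPullback π₁ π₂ h ν) (u' : U')
    (ht : Dual3.resTrdeg π₂ u' = Dual3.resTrdeg h (π₁ u')) :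
    ringKrullDim ↥((π₂.fiber (π₂ u')).presheaf.stalk (π₂.asFiber u')) =
      ringKrullDim ↥((h.fiber (h (π₁ u'))).presheaf.stalk (h.asFiber (π₁ u'))) := by
  haveI : LocallyOfFiniteType π₂ := MorphismProperty.of_isPullback sq inferInstance
  obtain ⟨n, hn⟩ := Groth.Agent.Helper14.ResFieldBridge.exists_nat_trdeg_residueField h (π₁ u')
  have hn' : @Algebra.trdeg (V'.residueField (π₂ u')) (U'.residueField u') _ _
      (π₂.residueFieldMap u').hom.toAlgebra = n := ht.trans hn
  have h1 := Groth.Agent.Helper14.FibreGeneric.fibreDimAt_eq_stalk_add_trdeg h (π₁ u') n hn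
  have h2 := Groth.Agent.Helper14.FibreGeneric.fibreDimAt_eq_stalk_add_trdeg π₂ u' n hn'
  have h3 := Groth.Agent.Helper14.FibreDimBC.fibreDimAt_eq sq u'
  rw [h1, h2] at h3
  exact add_natCast_cancel n h3

/-- general comparison in a cartesian square with `h` locally of finite type -/
theorem stalk_fibre_add_trdeg_eq {U V V' U' : Scheme.{u}} {h : U ⟶ V} {ν : V' ⟶ V}
    {π₁ : U' ⟶ U} {π₂ : U' ⟶ V'} [LocallyOfFiniteType h] (sq : IsPullback π₁ π₂ h ν) (u' : U') :
    ∃ n n' : ℕ, Dual3.resTrdeg h (π₁ u') = n ∧ Dual3.resTrdeg π₂ u' = n' ∧ n' ≤ n ∧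
      ringKrullDim ↥((π₂.fiber (π₂ u')).presheaf.stalk (π₂.asFiber u')) + ((n' : ℕ∞) : WithBot ℕ∞) =
      ringKrullDim ↥((h.fiber (h (π₁ u'))).presheaf.stalk (h.asFiber (π₁ u'))) +
        ((n : ℕ∞) : WithBot ℕ∞) := by
  haveI : LocallyOfFiniteType π₂ := MorphismProperty.of_isPullback sq inferInstance
  obtain ⟨n, hn⟩ := Groth.Agent.Helper14.ResFieldBridge.exists_nat_trdeg_residueField h (π₁ u')
  obtain ⟨n', hn'⟩ := Groth.Agent.Helper14.ResFieldBridge.exists_nat_trdeg_residueField π₂ u'
  have hle := (Groth.Agent.Helper14.FibreBC.trdeg_of_isPullback sq u').1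
  rw [hn, hn'] at hle
  have h1 := Groth.Agent.Helper14.FibreGeneric.fibreDimAt_eq_stalk_add_trdeg h (π₁ u') n hn
  have h2 := Groth.Agent.Helper14.FibreGeneric.fibreDimAt_eq_stalk_add_trdeg π₂ u' n' hn'
  have h3 := Groth.Agent.Helper14.FibreDimBC.fibreDimAt_eq sq u'
  rw [h1, h2] at h3
  exact ⟨n, n', hn, hn', by exact_mod_cast hle, h3⟩

end Groth.Agent.Helper19.FibBC
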