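import Groth.Agent.Lib.Helper19.FibBC.Sch
import Groth.Agent.Lib.Helper19.RelDim.Formula
import Groth.Agent.Lib.Helper15.ChartBC
import Groth.Agent.Lib.Helper15.AlgSpLocPRep
import Groth.Agent.Lib.Helper16.AlgSp.LftSp
import Groth.Agent.Lib.Helper16.AlgSp.LocPEngine

/-!
# Base change of fibre local-ring dimension and transcendence degrees (algebraic spaces)
-/

set_option autoImplicit false
set_option linter.style.haveILetI false
universe u
open CategoryTheory CategoryTheory.Limits AlgebraicGeometry MorphismProperty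
open AlgSp Groth.Agent.Helper15 Groth.Agent.Helper16.AS

namespace Groth.Agent.Helper19.FibBC

variable {S : Scheme.{u}}

/-- order consequence in `WithBot ℕ∞` -/
theorem le_of_add_natCast_eq {a a' : WithBot ℕ∞} {n n' : ℕ} (hle : n' ≤ n)
    (h : a' + ((n' : ℕ∞) : WithBot ℕ∞) = a + ((n : ℕ∞) : WithBot ℕ∞)) : a ≤ a' := by
  have e : ((n' : ℕ∞) : WithBot ℕ∞) = (n' : WithBot ℕ∞) := rfl
  have e2 : ((n : ℕ∞) : WithBot ℕ∞) = (n : WithBot ℕ∞) := rfl
  rw [e, e2] at h
  have h1 : a + (n' : WithBot ℕ∞) ≤ a' + (n' : WithBot ℕ∞) := by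
    rw [h]
    exact add_le_add_right (by exact_mod_cast hle) a
  exact ENat.WithBot.add_le_add_natCast_right_iff.mp h1

/-- first part of S10335 -/
theorem part_one {X Y Y' X' : Sp S} (hX : IsAlgSpace X) (hY : IsAlgSpace Y) (hY' : IsAlgSpace Y')
    (f : X ⟶ Y) (g : Y' ⟶ Y) (g' : X' ⟶ X) (f' : X' ⟶ Y') (sq : IsPullback g' f' f g)
    (hf : LocP @LocallyOfFiniteType f)
    (x' : Points X') (e e' : WithBot ℕ∞) (r r' : Cardinal.{u})
    (he : HasAtMor (fun _ _ h u =>
      ringKrullDim ↥((h.fiber (h u)).presheaf.stalk (h.asFiber u)) = e) f (Points.map g' x'))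
    (hr : HasAtMor (fun _ _ h u => Dual3.resTrdeg h u = r) f (Points.map g' x'))
    (he' : HasAtMor (fun _ _ h u =>
      ringKrullDim ↥((h.fiber (h u)).presheaf.stalk (h.asFiber u)) = e') f' x')
    (hr' : HasAtMor (fun _ _ h u => Dual3.resTrdeg h u = r') f' x') :
    e' + ((Cardinal.toENat r' : ℕ∞) : WithBot ℕ∞) = e + ((Cardinal.toENat r : ℕ∞) : WithBot ℕ∞) ∧
      e ≤ e' := by
  have hf' : LocP @LocallyOfFiniteType f' :=
    locP_of_isPullback goodP_lft srcEtLoc_lft hX hY hY' sq hf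
  obtain ⟨U, V, α, β, h, u, hα, hβ, comm, hx, he0⟩ := he
  haveI : LocallyOfFiniteType h.left := hf α β h hα hβ comm
  obtain ⟨U'', V'', α'', β', π₁, π₂, ν₀, u'', hα'', hβ', comm', hb, ha, sqS, hu'', hx''⟩ :=
    ChartBC.exists_chart_baseChange hY hY' sq α β h hα hβ comm u x' hx
  subst hu''
  obtain ⟨n, n', hn, hn', hle, heq⟩ := stalk_fibre_add_trdeg_eq sqS u''
  have hrn : (n : Cardinal.{u}) = r :=
    Trdeg.hasAtMor_resTrdeg_unique f (Points.map g' x') _ _
      ⟨U, V, α, β, h, π₁.left u'', hα, hβ, comm, hx, hn⟩ hr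
  have hr0' : HasAtMor (fun _ _ h u => Dual3.resTrdeg h u = (n' : Cardinal.{u})) f' x' :=
    ⟨U'', V'', α'', β', π₂, u'', hα'', hβ', comm', hx'', hn'⟩
  have hrn' : (n' : Cardinal.{u}) = r' := Trdeg.hasAtMor_resTrdeg_unique f' x' _ _ hr0' hr'
  have hd' : HasAtMor (fun _ _ h u => FlatMor.fibreDimAt h u = FlatMor.fibreDimAt π₂.left u'') f' x' :=
    ⟨U'', V'', α'', β', π₂, u'', hα'', hβ', comm', hx'', rfl⟩
  have he0' : HasAtMor (fun _ _ h u =>
      ringKrullDim ↥((h.fiber (h u)).presheaf.stalk (h.asFiber u)) =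
        ringKrullDim ↥((π₂.left.fiber (π₂.left u'')).presheaf.stalk (π₂.left.asFiber u''))) f' x' :=
    ⟨U'', V'', α'', β', π₂, u'', hα'', hβ', comm', hx'', rfl⟩
  have k1 := RelDim.relDim_eq_stalk_add_trdeg f' hf' x' _ _ _ hd' he0' hr0'
  have k2 := RelDim.relDim_eq_stalk_add_trdeg f' hf' x' _ _ _ hd' he' hr'
  rw [← hrn'] at k2
  rw [k1] at k2
  simp only [Cardinal.toENat_nat] at k2
  have k3 := add_natCast_cancel n' k2
  have he0'' : ringKrullDim ↥((h.left.fiber (h.left (π₁.left u''))).presheaf.stalk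
      (h.left.asFiber (π₁.left u''))) = e := he0
  rw [k3, he0''] at heq
  rw [← hrn, ← hrn']
  simp only [Cardinal.toENat_nat]
  exact ⟨heq, le_of_add_natCast_eq hle heq⟩

/-- second part of S10335 -/
theorem part_two {X Y Y' X' : Sp S} (hY : IsAlgSpace Y) (hY' : IsAlgSpace Y')
    (f : X ⟶ Y) (g : Y' ⟶ Y) (g' : X' ⟶ X) (f' : X' ⟶ Y') (sq : IsPullback g' f' f g)
    (hf : LocP @LocallyOfFiniteType f)
    (x : Points X) (y' : Points Y') (e : WithBot ℕ∞)
    (hxy : Points.map f x = Points.map g y')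
    (he : HasAtMor (fun _ _ h u =>
      ringKrullDim ↥((h.fiber (h u)).presheaf.stalk (h.asFiber u)) = e) f x) :
    ∃ x' : Points X', Points.map g' x' = x ∧ Points.map f' x' = y' ∧
      HasAtMor (fun _ _ h u =>
        ringKrullDim ↥((h.fiber (h u)).presheaf.stalk (h.asFiber u)) = e) f' x' := by
  obtain ⟨U, V, α, β, h, u, hα, hβ, comm, hx, he0⟩ := he
  haveI : LocallyOfFiniteType h.left := hf α β h hα hβ comm
  obtain ⟨x'₀, hx'₀1, hx'₀2⟩ := exists_point_of_isPullback sq x y' hxy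
  obtain ⟨U'', V'', α'', β', π₁, π₂, ν₀, u''₀, hα'', hβ', comm', hb, ha, sqS, hu''₀, hx''₀⟩ :=
    ChartBC.exists_chart_baseChange hY hY' sq α β h hα hβ comm u x'₀ (hx.trans hx'₀1.symm)
  have huv : h.left u = ν₀.left (π₂.left u''₀) := by
    rw [← hu''₀, ← Scheme.Hom.comp_apply, sqS.w, Scheme.Hom.comp_apply]
  obtain ⟨u'', hu''1, hu''2, htr⟩ := exists_point_trdeg_eq sqS u (π₂.left u''₀) huv
  subst hu''1
  have hst := stalk_fibre_eq_of_trdeg_eq sqS u'' htr
  have he0'' : ringKrullDim ↥((h.left.fiber (h.left (π₁.left u''))).presheaf.stalk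
      (h.left.asFiber (π₁.left u''))) = e := he0
  refine ⟨Points.ofPt α'' u'', ?_, ?_, U'', V'', α'', β', π₂, u'', hα'', hβ', comm', rfl, ?_⟩
  · rw [Points.map_ofPt, hb, ofPt_comp_yon_map]
    exact hx
  · rw [Points.map_ofPt, comm', ofPt_comp_yon_map, hu''2, ← ofPt_comp_yon_map, ← comm',
      ← Points.map_ofPt, hx''₀]
    exact hx'₀2
  · change ringKrullDim ↥((π₂.left.fiber (π₂.left u'')).presheaf.stalk (π₂.left.asFiber u'')) = e
    rw [hst, he0'']

end Groth.Agent.Helper19.FibBC
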